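import Groth.Agent.PicLiftDim1.Space
import Groth.Agent.PicTorsThick
import Groth.Agent.InvUfdLib.Trivial

/-!
Invertible modules lift along closed immersions into schemes of dimension at most one.
-/

set_option autoImplicit false
set_option backward.isDefEq.respectTransparency false
set_option backward.isDefEq.respectTransparency.types false
set_option linter.style.haveILetI false

universe u

open CategoryTheory AlgebraicGeometry TopologicalSpace Opposite
open Groth.Agent.AModX Groth.Agent.InvX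
open Groth.Agent.PicTorsThick (app_resR)

namespace Groth.Agent.PicLiftDim1

variable {Z X : Scheme.{u}} (i : Z ⟶ X)

theorem isFrame_of_isEmpty {M : Z.Modules} {U : Z.Opens} (hU : ∀ z, z ∉ U) (e : Γ(M, U)) : IsFrame e :=
  fun V hV => ⟨fun a b _ => eq_of_locally (M := Coh.structureModule Z) _ _ fun p hp => (hU p (hV hp)).elim,
    fun m => ⟨0, eq_of_locally _ _ fun p hp => (hU p (hV hp)).elim⟩⟩

variable [IsClosedImmersion i] {L : Z.Modules} (hL : PicF.IsInvertible L)

include hL in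
/-- A small open of `X` around any point on whose trace the module is trivial. -/
theorem exists_trivial_nhd (x : X) : ∃ (W : X.Opens), x ∈ W ∧ ∃ e : Γ(L, i ⁻¹ᵁ W), IsFrame e := by
  by_cases hx : x ∈ Set.range i
  · obtain ⟨z, rfl⟩ := hx
    obtain ⟨O, hz, e, he⟩ := InvX.exists_frame hL z
    obtain ⟨T, hT, hTO⟩ := i.isClosedEmbedding.isInducing.isOpen_iff.1 O.2
    refine ⟨⟨T, hT⟩, show z ∈ i ⁻¹' T by rw [hTO]; exact hz, _, he.res (show i ⁻¹ᵁ ⟨T, hT⟩ ≤ O from hTO.le)⟩
  · exact ⟨⟨(Set.range i)ᶜ, i.isClosedEmbedding.isClosed_range.isOpen_compl⟩, hx, 0,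
      isFrame_of_isEmpty (fun z (hz : i z ∈ (Set.range i)ᶜ) => hz (Set.mem_range_self z)) 0⟩

variable [NoetherianSpace X] (hdim : topologicalKrullDim X ≤ 1)

include hL in
/-- The dense open: a disjoint union of neighbourhoods of the generic points. -/
theorem exists_dense : ∃ (W A : X.Opens) (e : Γ(L, i ⁻¹ᵁ W)), IsFrame e ∧ (∀ x, IsGen x → x ∈ W) ∧
    A ≤ W ∧ (A : Set X) = (W : Set X) ∩ Set.range i := by
  classical
  let ι := {x : X // IsGen x}
  have h : ∀ g : ι, ∃ W : X.Opens, g.1 ∈ W ∧ (W : Set X) ⊆ closure {g.1} ∧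
      (∀ y, IsGen y → y ∈ W → y = g.1) ∧ (g.1 ∉ Set.range i → ∀ y ∈ W, y ∉ Set.range i) ∧
      ∃ e : Γ(L, i ⁻¹ᵁ W), IsFrame e := fun g => by
    obtain ⟨N, hN, hgN, hNc, hNu⟩ := exists_nhd g.2
    obtain ⟨T, hgT, e, he⟩ := exists_trivial_nhd i hL g.1
    by_cases hg : g.1 ∈ Set.range i
    · exact ⟨⟨N, hN⟩ ⊓ T, ⟨hgN, hgT⟩, fun y hy => hNc hy.1, fun y hy hy' => hNu y hy hy'.1,
        fun h => absurd hg h, _, he.res (i.preimage_mono inf_le_right)⟩
    · exact ⟨⟨N ∩ (Set.range i)ᶜ, hN.inter i.isClosedEmbedding.isClosed_range.isOpen_compl⟩ ⊓ T, ⟨⟨hgN, hg⟩, hgT⟩,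
        fun y hy => hNc hy.1.1, fun y hy hy' => hNu y hy hy'.1.1,
        fun _ y hy => hy.1.2, _, he.res (i.preimage_mono inf_le_right)⟩
  choose W hgW hWc hWu hWZ e he using h
  have hdisj : ∀ g g' : ι, ∀ y ∈ W g, y ∈ W g' → g = g' := fun g g' y hy hy' => by
    have h1 : g.1 ⤳ y := specializes_iff_mem_closure.2 (hWc g hy)
    exact Subtype.ext (hWu g' g.1 g.2 (h1.mem_open (W g').2 hy'))
  obtain ⟨s, hs, -⟩ := existsUnique_glue (M := L) (V := i ⁻¹ᵁ iSup W) (fun g => i ⁻¹ᵁ W g)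
    (fun g => i.preimage_mono (le_iSup W g)) (fun z hz => (Opens.mem_iSup (s := W)).1 (show i z ∈ iSup W from hz)) e
    fun g g' => eq_of_locally _ _ fun z hz => by
      obtain rfl := hdisj g g' _ hz.1 hz.2
      exact ⟨_, le_refl _, hz, rfl⟩
  let A : X.Opens := ⨆ g : {g : ι // g.1 ∈ Set.range i}, W g.1
  refine ⟨iSup W, A, s, InvUfdLib.isFrame_of_cover _ (fun g => i.preimage_mono (le_iSup W g))
    (fun z hz => (Opens.mem_iSup (s := W)).1 (show i z ∈ iSup W from hz)) s fun g => by rw [hs g]; exact he g,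
    fun x hx => Opens.mem_iSup.2 ⟨⟨x, hx⟩, hgW _⟩, iSup_le fun g => le_iSup W g.1, ?_⟩
  ext y
  constructor
  · intro hy
    obtain ⟨g, hg⟩ := Opens.mem_iSup.1 hy
    exact ⟨Opens.mem_iSup.2 ⟨g.1, hg⟩, closure_minimal (Set.singleton_subset_iff.2 g.2)
      i.isClosedEmbedding.isClosed_range (hWc g.1 hg)⟩
  · rintro ⟨hy, hyZ⟩
    obtain ⟨g, hg⟩ := Opens.mem_iSup.1 hy
    exact Opens.mem_iSup.2 ⟨⟨g, by_contra fun h => hWZ g h y hg hyZ⟩, hg⟩

include hL hdim in
/-- The chart at a point outside the dense open. -/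
theorem exists_chart {W₀ : X.Opens} (hW₀ : ∀ x, IsGen x → x ∈ W₀) {p : X} (hp : p ∉ W₀) :
    ∃ W : X.Opens, p ∈ W ∧ (∀ y ∈ W, y ∉ W₀ → y = p) ∧ IsAffineOpen (W ⊓ W₀) ∧
      ∃ e : Γ(L, i ⁻¹ᵁ W), IsFrame e := by
  classical
  have hPfin : ((W₀ : Set X)ᶜ).Finite := finite_of_isClosed hdim W₀.2.isClosed_compl
    fun x hx hg => hx (hW₀ x hg)
  have hO : IsClosed ((W₀ : Set X)ᶜ \ {p}) := by
    have := Set.Finite.isClosed_biUnion (s := (W₀ : Set X)ᶜ \ {p}) (f := fun y => ({y} : Set X))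
      (hPfin.subset Set.sdiff_subset) fun y hy => isClosed_of_not_isGen hdim fun hg => hy.1 (hW₀ y hg)
    rwa [Set.biUnion_of_singleton] at this
  obtain ⟨T, hpT, e, he⟩ := exists_trivial_nhd i hL p
  obtain ⟨_, ⟨V, hV, rfl⟩, hpV, hVT⟩ := X.isBasis_affineOpens.exists_subset_of_mem_open
    (show p ∈ (T : Set X) ∩ ((W₀ : Set X)ᶜ \ {p})ᶜ from ⟨hpT, fun h => h.2 rfl⟩) (T.2.inter hO.isOpen_compl)
  replace hV : IsAffineOpen V := hV
  replace hVT : (V : Set X) ⊆ (T : Set X) ∩ ((W₀ : Set X)ᶜ \ {p})ᶜ := hVT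
  -- a function vanishing at `p` and at no generic point
  let G : Set X := {x | IsGen x ∧ x ∈ V}
  have hG : G.Finite := by
    refine Set.Finite.subset ((NoetherianSpace.finite_irreducibleComponents (α := X)).biUnion
      (t := fun C => {x : X | closure {x} = C}) fun C _ => Set.Subsingleton.finite fun a ha b hb => ?_) fun x hx => ?_
    · have hab : closure ({a} : Set X) = closure {b} := ha.trans hb.symm
      exact (specializes_iff_mem_closure.2 (hab.symm ▸ subset_closure rfl : a ∈ closure {b})).antisymm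
        (specializes_iff_mem_closure.2 (hab ▸ subset_closure rfl : b ∈ closure {a})) |>.eq.symm
    · exact Set.mem_biUnion (x := closure {x}) hx.1 rfl
  have hf : ∃ f : Γ(X, V), p ∉ X.basicOpen f ∧ ∀ x ∈ G, x ∈ X.basicOpen f := by
    let q : X → Ideal Γ(X, V) := fun x => if hx : x ∈ V then (hV.primeIdealOf ⟨x, hx⟩).asIdeal else ⊥
    have hmem : ∀ (x : X) (hx : x ∈ V) (f : Γ(X, V)), x ∈ X.basicOpen f ↔ f ∉ q x := fun x hx f => by
      simp only [q, dif_pos hx]
      exact QCoh.mem_basicOpen_iff_notMem hV hx f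
    by_contra hcon
    push Not at hcon
    have hsub : (q p : Set Γ(X, V)) ⊆ ⋃ x ∈ (↑hG.toFinset : Set X), (q x : Set Γ(X, V)) := fun f hf => by
      obtain ⟨x, hx, hxf⟩ := hcon f fun h => (hmem p hpV f).1 h hf
      exact Set.mem_biUnion (hG.mem_toFinset.2 hx) (not_not.1 fun h => hxf ((hmem x hx.2 f).2 h))
    obtain ⟨x, hx, hle⟩ := (Ideal.subset_union_prime (f := q) p p fun x hx _ _ => by
      simp only [q, dif_pos (hG.mem_toFinset.1 hx).2]; infer_instance).1 hsub
    replace hx := hG.mem_toFinset.1 hx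
    have hspec : hV.primeIdealOf ⟨p, hpV⟩ ⤳ hV.primeIdealOf ⟨x, hx.2⟩ := by
      refine (PrimeSpectrum.le_iff_specializes _ _).1 ?_
      have : q p ≤ q x := hle
      rw [show q p = _ from dif_pos hpV, show q x = _ from dif_pos hx.2] at this
      exact this
    have := hspec.map hV.fromSpec.continuous
    rw [hV.fromSpec_primeIdealOf, hV.fromSpec_primeIdealOf] at this
    have hcl := isClosed_of_not_isGen hdim fun hg => hp (hW₀ p hg)
    have : x ∈ closure ({p} : Set X) := specializes_iff_mem_closure.1 this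
    rw [hcl.closure_eq, Set.mem_singleton_iff] at this
    exact hp (this ▸ hW₀ x hx.1)
  obtain ⟨f, hfp, hfG⟩ := hf
  haveI : NoetherianSpace (V : Scheme.{u}) := NoetherianSpace.set (V : Set X)
  -- the other zeros of `f` on `V` are finitely many closed points
  have hSfin : ((V : Set X) \ X.basicOpen f).Finite := by
    let S : Set (V : Scheme.{u}) := (Scheme.Opens.ι (X := X) V) ⁻¹' ((X.basicOpen f : Set X)ᶜ)
    obtain ⟨Fs, hFs, hcl, hirr, hU⟩ := NoetherianSpace.exists_finite_set_isClosed_irreducible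
      (α := (V : Scheme.{u})) (s := S) ((X.basicOpen f).2.isClosed_compl.preimage (Scheme.Opens.ι (X := X) V).continuous)
    refine Set.Finite.subset ((hFs.sUnion fun t ht => ?_).image (Scheme.Opens.ι (X := X) V)) fun y hy =>
      ⟨⟨y, hy.1⟩, hU.le (show (⟨y, hy.1⟩ : (V : Scheme.{u})) ∈ S from hy.2), rfl⟩
    obtain ⟨g, hg⟩ := QuasiSober.sober (hirr t ht) (hcl t ht)
    have hgS : g ∈ S := hU.ge ⟨t, ht, hg.mem⟩
    have hgc : IsClosed ({g} : Set (V : Scheme.{u})) := by
      have := (isClosed_of_not_isGen hdim fun h => hgS (hfG _ ⟨h, g.2⟩)).preimage (Scheme.Opens.ι (X := X) V).continuous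
      rwa [show (Scheme.Opens.ι (X := X) V) ⁻¹' {(Scheme.Opens.ι (X := X) V) g} = {g} from Set.ext fun z => (Scheme.Opens.ι (X := X) V).isOpenEmbedding.injective.eq_iff] at this
    rw [← hg.def, hgc.closure_eq]
    exact Set.finite_singleton g
  have hbad : IsClosed (((V : Set X) \ X.basicOpen f) \ {p}) := by
    have := Set.Finite.isClosed_biUnion (s := ((V : Set X) \ X.basicOpen f) \ {p}) (f := fun y => ({y} : Set X))
      (hSfin.subset Set.sdiff_subset) fun y hy => isClosed_of_not_isGen hdim fun hg => hy.1.2 (hfG y ⟨hg, hy.1.1⟩)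
    rwa [Set.biUnion_of_singleton] at this
  obtain ⟨h, hh, hph⟩ := hV.exists_basicOpen_le
    (V := ⟨(((V : Set X) \ X.basicOpen f) \ {p})ᶜ, hbad.isOpen_compl⟩) ⟨p, fun hh => hh.2 rfl⟩ hpV
  have huniq : ∀ y ∈ V, y ∉ W₀ → y = p := fun y hy hy' =>
    by_contra fun hne => (hVT hy).2 ⟨hy', hne⟩
  have hle : X.basicOpen h ≤ T := fun y hy => (hVT (X.basicOpen_le h hy)).1
  refine ⟨X.basicOpen h, hph, fun y hy => huniq y (X.basicOpen_le h hy), ?_, _, he.res (i.preimage_mono hle)⟩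
  have heq : X.basicOpen h ⊓ W₀ = X.basicOpen (h * f) := by
    rw [X.basicOpen_mul]
    apply Opens.ext
    ext y
    constructor
    · rintro ⟨hy, hy'⟩
      refine ⟨hy, by_contra fun hyf => hh hy ⟨⟨X.basicOpen_le h hy, hyf⟩, fun hyp => hp ?_⟩⟩
      rw [Set.mem_singleton_iff] at hyp
      exact hyp ▸ hy'
    · rintro ⟨hy, hyf⟩
      refine ⟨hy, by_contra fun hyW => hfp ?_⟩
      rwa [← huniq y (X.basicOpen_le h hy) hyW]
  rw [heq]
  exact hV.basicOpen _

/-- Units lift over an affine open meeting the closed subscheme in a clopen set. -/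
theorem exists_unit_lift {W A : X.Opens} (hW : IsAffineOpen W) (hA : (W ⊓ A : X.Opens).1 = (W : Set X) ∩ Set.range i)
    {u : Γ(Z, i ⁻¹ᵁ W)} (hu : IsUnit u) : ∃ r : Γ(X, W), IsUnit r ∧ i.app W r = u := by
  classical
  obtain ⟨r₀, hr₀⟩ := i.app_surjective W hW u
  let B : X.Opens := W ⊓ ⟨(Set.range i)ᶜ, i.isClosedEmbedding.isClosed_range.isOpen_compl⟩
  let O : ULift.{u} Bool → X.Opens := fun b => if b.down then W ⊓ A else B
  have hO : ∀ b, O b ≤ W := by rintro ⟨_ | _⟩ <;> exact inf_le_left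
  have hcov : ∀ y ∈ W, ∃ b, y ∈ O b := fun y hy => by
    by_cases h : y ∈ Set.range i
    · exact ⟨⟨true⟩, (show y ∈ (W ⊓ A : X.Opens).1 by rw [hA]; exact ⟨hy, h⟩)⟩
    · exact ⟨⟨false⟩, hy, h⟩
  let c : ∀ b, Γ(X, O b) := fun b => if hb : b.down = true then resR (hO b) r₀ else 1
  obtain ⟨r, hr, -⟩ := existsUnique_glue (M := Coh.structureModule X) (V := W) O hO hcov c fun a b => by
    by_cases hab : a = b
    · subst hab; rfl
    · refine eq_of_locally (M := Coh.structureModule X) _ _ fun y hy => ?_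
      exfalso
      rcases a with ⟨_ | _⟩ <;> rcases b with ⟨_ | _⟩
      · exact hab rfl
      · exact hy.1.2 ((hA ▸ hy.2 : y ∈ (W : Set X) ∩ Set.range i)).2
      · exact hy.2.2 ((hA ▸ hy.1 : y ∈ (W : Set X) ∩ Set.range i)).2
      · exact hab rfl
  have hrA : ∀ (hle : W ⊓ A ≤ W), resR hle (show Γ(X, W) from r) = resR hle r₀ := fun hle => hr ⟨true⟩
  have hi : i.app W (show Γ(X, W) from r) = u := by
    refine eq_of_locally (M := Coh.structureModule Z) _ _ fun z hz => ?_
    refine ⟨i ⁻¹ᵁ (W ⊓ A), i.preimage_mono inf_le_left,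
      show i z ∈ (W ⊓ A : X.Opens).1 by rw [hA]; exact ⟨hz, Set.mem_range_self z⟩, ?_⟩
    show resR _ (i.app W (show Γ(X, W) from r)) = resR _ u
    rw [← app_resR i inf_le_left, hrA, app_resR, hr₀]
  refine ⟨r, ?_, hi⟩
  have hbo : W ≤ X.basicOpen (show Γ(X, W) from r) := fun y hy => by
    obtain ⟨b, hb⟩ := hcov y hy
    rcases b with ⟨_ | _⟩
    · have h1 : resR (hO ⟨false⟩) (show Γ(X, W) from r) = 1 := hr ⟨false⟩
      have h2 := congrArg (X.presheaf.germ (O ⟨false⟩) y hb).hom h1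
      rw [map_one] at h2
      refine (X.mem_basicOpen _ y hy).2 ?_
      rw [← X.presheaf.germ_res_apply (homOfLE (hO ⟨false⟩)) y hb]
      exact h2 ▸ isUnit_one
    · obtain ⟨hyW, z, rfl⟩ := (hA ▸ hb : y ∈ (W : Set X) ∩ Set.range i)
      have : z ∈ i ⁻¹ᵁ X.basicOpen (show Γ(X, W) from r) := by
        rw [Scheme.preimage_basicOpen, hi, Scheme.basicOpen_of_isUnit _ hu]
        exact hyW
      exact this
  have h2 := isUnit_resR (le_refl W) (show Γ(X, W) from r) hbo
  rwa [resR_self] at h2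

include hL hdim in
theorem main : ∃ L' : X.Modules, PicF.IsInvertible L' ∧ Nonempty ((Scheme.Modules.pullback i).obj L' ≅ L) := by
  classical
  obtain ⟨W₀, A, e₀, he₀, hgen, hAW, hA⟩ := exists_dense i hL
  let ι := Option ↥((W₀ : Set X)ᶜ)
  have hch := fun p : ↥((W₀ : Set X)ᶜ) => exists_chart i hL hdim hgen p.2
  choose W₁ hpW hu₁ haff e₁ he₁ using hch
  have hh : ∀ a : ι, ∃ (W : X.Opens) (e : Γ(L, i ⁻¹ᵁ W)) (c : Γ(X, W ⊓ W₀)), IsFrame e ∧ IsUnit c ∧
      res L (i.preimage_mono (inf_le_left : W ⊓ W₀ ≤ W)) e =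
        i.app _ c • res L (i.preimage_mono inf_le_right) e₀ ∧
      (a.elim (W = W₀) fun p => p.1 ∈ W ∧ ∀ y ∈ W, y ∉ W₀ → y = p.1) := by
    rintro (_ | p)
    · exact ⟨W₀, e₀, 1, he₀, isUnit_one, by rw [map_one, one_smul], rfl⟩
    · obtain ⟨u, hu⟩ := he₀.exists_coord (i.preimage_mono (inf_le_right : W₁ p ⊓ W₀ ≤ W₀))
        (res L (i.preimage_mono (inf_le_left : W₁ p ⊓ W₀ ≤ W₁ p)) (e₁ p))
      obtain ⟨u', hu'⟩ := (he₁ p).exists_coord (i.preimage_mono (inf_le_left : W₁ p ⊓ W₀ ≤ W₁ p))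
        (res L (i.preimage_mono (inf_le_right : W₁ p ⊓ W₀ ≤ W₀)) e₀)
      have huu : IsUnit u := IsUnit.of_mul_eq_one u' <| by
        refine (he₁ p).coord_unique (i.preimage_mono (inf_le_left : W₁ p ⊓ W₀ ≤ W₁ p)) ?_
        rw [one_smul, mul_smul, ← hu']
        exact hu.symm
      obtain ⟨r, hr, hru⟩ := exists_unit_lift i (haff p) (A := A) (by
        ext y
        constructor
        · intro hy
          exact ⟨hy.1, (hA ▸ hy.2 : y ∈ (W₀ : Set X) ∩ Set.range i).2⟩
        · intro hy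
          exact ⟨hy.1, (hA.symm ▸ ⟨hy.1.2, hy.2⟩ : y ∈ (A : Set X))⟩) huu
      exact ⟨W₁ p, e₁ p, r, he₁ p, hr, by rw [hru]; exact hu, hpW p, hu₁ p⟩
  choose W e c he hc hec hW using hh
  have hne : ∀ a b, a ≠ b → W a ⊓ W b ≤ W₀ := by
    rintro (_ | p) (_ | q) hab y hy
    · exact absurd rfl hab
    · exact (hW none).le hy.1
    · exact (hW none).le hy.2
    · by_contra hyU
      exact hab (congrArg some (Subtype.ext (((hW (some p)).2 y hy.1 hyU).symm.trans ((hW (some q)).2 y hy.2 hyU))))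
  have hcov : iSup W = ⊤ := by
    refine eq_top_iff.2 fun x _ => ?_
    by_cases hx : x ∈ W₀
    · exact Opens.mem_iSup.2 ⟨none, (hW none).symm.le hx⟩
    · exact Opens.mem_iSup.2 ⟨some ⟨x, hx⟩, (hW (some ⟨x, hx⟩)).1⟩
  -- transition functions
  let g : ∀ a b, (Γ(X, W a ⊓ W b))ˣ := fun a b =>
    if hab : a = b then 1 else
      ((hc a).map (resR (le_inf inf_le_left (hne a b hab) : W a ⊓ W b ≤ W a ⊓ W₀))).unit *
        (((hc b).map (resR (le_inf inf_le_right (hne a b hab) : W a ⊓ W b ≤ W b ⊓ W₀))).unit)⁻¹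
  have hg : ∀ a b (V : X.Opens) (ha : V ≤ W a) (hb : V ≤ W b) (hV : V ≤ W₀),
      resR (le_inf ha hb) (g a b : Γ(X, W a ⊓ W b)) * resR (le_inf hb hV) (c b) = resR (le_inf ha hV) (c a) := by
    intro a b V ha hb hV
    by_cases hab : a = b
    · subst hab
      simp [g]
    · simp only [g, dif_neg hab, Units.val_mul, map_mul]
      have key : resR (le_inf ha hb) ((((hc b).map (resR (le_inf inf_le_right (hne a b hab) :
          W a ⊓ W b ≤ W b ⊓ W₀))).unit)⁻¹ : (Γ(X, W a ⊓ W b))ˣ).1 * resR (le_inf hb hV) (c b) = 1 := by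
        rw [← resR_resR (le_inf inf_le_right (hne a b hab)) (le_inf ha hb) (c b), ← map_mul]
        rw [IsUnit.val_inv_mul, map_one]
      rw [mul_assoc, key, mul_one, IsUnit.unit_spec, resR_resR]
  let t : H23.CocycleMod.Cocycle W :=
    { g := g
      trans := fun a b d V ha hb hd => by
        by_cases hall : a = b ∧ b = d
        · obtain ⟨rfl, rfl⟩ := hall
          simp [g]
        · have hV : V ≤ W₀ := by
            rcases not_and_or.1 hall with h | h
            · exact (le_inf ha hb).trans (hne a b h)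
            · exact (le_inf hb hd).trans (hne b d h)
          refine ((hc d).map (resR (le_inf hd hV))).mul_right_cancel ?_
          rw [hg a d V ha hd hV, mul_comm (resR _ (g b d : Γ(X, W b ⊓ W d))), mul_assoc, hg b d V hb hd hV,
            hg a b V ha hb hV] }
  refine ⟨H23.CocycleMod.mod t, H23.CocycleMod.isInvertible t hcov, ?_⟩
  refine PicTorsThick.nonempty_iso_of_transition (fun a => i ⁻¹ᵁ W a)
    (fun z => (Opens.mem_iSup (s := W)).1 (show i z ∈ iSup W by rw [hcov]; trivial))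
    (fun a => pullElt i (H23.CocycleMod.frame t a))
    (fun a => isFrame_pullElt _ (H23.CocycleMod.isFrame_frame t a)) e he fun a b =>
      ⟨i.app _ (g a b : Γ(X, W a ⊓ W b)), ?_, ?_⟩
  · let η : H23.CocycleMod.mod t ⟶ (Scheme.Modules.pushforward i).obj
        ((Scheme.Modules.pullback i).obj (H23.CocycleMod.mod t)) :=
      (Scheme.Modules.pullbackPushforwardAdjunction i).unit.app _
    have h1 := congrArg (η.app (W a ⊓ W b)) (H23.CocycleMod.res_frame t a b)
    rw [Scheme.Modules.Hom.app_smul, app_res, app_res] at h1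
    exact h1
  · by_cases hab : a = b
    · subst hab
      simp only [g, dite_true, Units.val_one, map_one, one_smul]
    · have hV : W a ⊓ W b ≤ W₀ := hne a b hab
      have ea := congrArg (res L (i.preimage_mono (le_inf inf_le_left hV : W a ⊓ W b ≤ W a ⊓ W₀))) (hec a)
      have eb := congrArg (res L (i.preimage_mono (le_inf inf_le_right hV : W a ⊓ W b ≤ W b ⊓ W₀))) (hec b)
      simp only [res_smul, res_res, ← app_resR] at ea eb
      have h2 := hg a b (W a ⊓ W b) inf_le_left inf_le_right hV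
      rw [resR_self] at h2
      have hca := app_resR i (le_inf inf_le_left hV : W a ⊓ W b ≤ W a ⊓ W₀) (c a)
      have hcb := app_resR i (le_inf inf_le_right hV : W a ⊓ W b ≤ W b ⊓ W₀) (c b)
      rw [← hca, ← h2, map_mul, mul_smul] at ea
      rw [← hcb] at eb
      rw [← eb] at ea
      exact ea

end Groth.Agent.PicLiftDim1
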