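import Mathlib

/-!
Noetherian sober spaces of dimension at most one.
-/

universe u

open TopologicalSpace

namespace Groth.Agent.PicLiftDim1

variable {α : Type u} [TopologicalSpace α] [QuasiSober α] [T0Space α] [NoetherianSpace α]

/-- The point is generic in a component. -/
def IsGen (x : α) : Prop := closure {x} ∈ irreducibleComponents α

omit [QuasiSober α] [NoetherianSpace α] in
/-- The other points are closed. -/
theorem isClosed_of_not_isGen (hdim : topologicalKrullDim α ≤ 1) {y : α} (hy : ¬ IsGen y) :
    IsClosed ({y} : Set α) := by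
  refine closure_subset_iff_isClosed.1 fun z hz => ?_
  by_contra hne
  rw [Set.mem_singleton_iff] at hne
  have hyi : IsIrreducible (closure ({y} : Set α)) := isIrreducible_singleton.closure
  obtain ⟨C, hC, hyC⟩ := exists_mem_irreducibleComponents_subset_of_isIrreducible _ hyi
  let a : IrreducibleCloseds α := ⟨closure {z}, isIrreducible_singleton.closure, isClosed_closure⟩
  let b : IrreducibleCloseds α := ⟨closure {y}, hyi, isClosed_closure⟩
  let c : IrreducibleCloseds α := ⟨C, hC.1, isClosed_of_mem_irreducibleComponents C hC⟩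
  have hab : a < b := lt_of_le_of_ne (closure_minimal (Set.singleton_subset_iff.2 hz) isClosed_closure)
    fun h => hne <| by
      have h' : closure ({z} : Set α) = closure {y} := congrArg SetLike.coe h
      exact (specializes_iff_mem_closure.2 (h'.symm ▸ subset_closure rfl : y ∈ closure {z})).antisymm
        (specializes_iff_mem_closure.2 hz) |>.eq
  have hbc : b < c := lt_of_le_of_ne hyC fun h => hy (show closure {y} ∈ _ by
    have h' : closure ({y} : Set α) = C := congrArg SetLike.coe h
    exact h' ▸ hC)
  have h2 := Order.LTSeries.length_le_krullDim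
    (((RelSeries.singleton (α := IrreducibleCloseds α) _ a).snoc b hab).snoc c (by simpa using hbc))
  have h3 : ((2 : ℕ) : WithBot ℕ∞) ≤ 1 := le_trans (le_of_eq_of_le (by simp) h2) hdim
  exact absurd h3 (by norm_num)

omit [T0Space α] [NoetherianSpace α] in
theorem exists_isGen {C : Set α} (hC : C ∈ irreducibleComponents α) : ∃ x, IsGen x ∧ closure {x} = C := by
  obtain ⟨x, hx⟩ := QuasiSober.sober hC.1 (isClosed_of_mem_irreducibleComponents C hC)
  exact ⟨x, by rw [IsGen, hx.def]; exact hC, hx.def⟩

/-- A closed set of non-generic points is finite. -/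
theorem finite_of_isClosed (hdim : topologicalKrullDim α ≤ 1) {S : Set α} (hS : IsClosed S)
    (hg : ∀ x ∈ S, ¬ IsGen x) : S.Finite := by
  obtain ⟨Fs, hFs, hcl, hirr, hU⟩ := NoetherianSpace.exists_finite_set_isClosed_irreducible (α := α) hS
  rw [hU]
  refine hFs.sUnion fun t ht => ?_
  obtain ⟨g, hgen⟩ := QuasiSober.sober (hirr t ht) (hcl t ht)
  have hgS : g ∈ S := hU.ge ⟨t, ht, hgen.mem⟩
  rw [← hgen.def, (isClosed_of_not_isGen hdim (hg g hgS)).closure_eq]
  exact Set.finite_singleton g

omit [QuasiSober α] in
/-- A generic point has a neighbourhood in its component avoiding the other components. -/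
theorem exists_nhd {x : α} (hx : IsGen x) : ∃ W : Set α, IsOpen W ∧ x ∈ W ∧ W ⊆ closure {x} ∧
    ∀ y, IsGen y → y ∈ W → y = x := by
  let R : Set α := ⋃₀ (irreducibleComponents α \ {closure {x}})
  have hR : IsClosed R := by
    rw [show R = ⋃ C ∈ irreducibleComponents α \ {closure {x}}, C from Set.sUnion_eq_biUnion]
    exact (NoetherianSpace.finite_irreducibleComponents.sdiff).isClosed_biUnion
      fun C hC => isClosed_of_mem_irreducibleComponents C hC.1
  refine ⟨Rᶜ, hR.isOpen_compl, ?_, ?_, ?_⟩
  · rintro ⟨C, ⟨hC, hne⟩, hxC⟩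
    exact hne (le_antisymm (hx.2 hC.1 (closure_minimal (Set.singleton_subset_iff.2 hxC)
      (isClosed_of_mem_irreducibleComponents C hC))) (closure_minimal (Set.singleton_subset_iff.2 hxC)
      (isClosed_of_mem_irreducibleComponents C hC)))
  · intro y hy
    obtain ⟨C, hC, hyC⟩ := exists_mem_irreducibleComponents_subset_of_isIrreducible _
      (isIrreducible_singleton (x := y))
    by_cases h : C = closure {x}
    · exact h ▸ hyC rfl
    · exact absurd ⟨C, ⟨hC, h⟩, hyC rfl⟩ hy
  · intro y hy hyR
    have h : closure ({y} : Set α) = closure {x} := by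
      by_contra h
      exact hyR ⟨_, ⟨hy, h⟩, subset_closure rfl⟩
    exact (specializes_iff_mem_closure.2 (h ▸ subset_closure rfl : x ∈ closure {y})).antisymm
      (specializes_iff_mem_closure.2 (h.symm ▸ subset_closure rfl : y ∈ closure {x})) |>.eq

end Groth.Agent.PicLiftDim1
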